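import Groth.Agent.Sga7.H885.Red
import Groth.Agent.Etrest.ConstBasic
import Groth.Agent.S0185

/-!
# A finite extension acts trivially on `H^q(C_Ω, ℤ/n)`, `C` proper over a field
-/

set_option autoImplicit false
universe u

open CategoryTheory CategoryTheory.Limits AlgebraicGeometry

namespace Groth.Agent.Sga7.H885.Red

open Groth.Agent.Sga7.H744.CohConst

/-- For `f` proper and `M` finite a finite extension acts trivially on `H^q(X_Ω, M)`. -/
theorem exists_triv_proper (K Ω : Type u) [Field K] [Field Ω] [Algebra K Ω] [IsSepClosure K Ω]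
    {X : Scheme.{u}} (f : X ⟶ Spec (CommRingCat.of K)) [IsProper f] (M : Type) [AddCommGroup M]
    [Finite M] (q : ℕ) :
    ∃ E : IntermediateField K Ω, FiniteDimensional K E ∧
      ∀ σ ∈ E.fixingSubgroup, Hc (SGA7.twistAut Ω f σ) M q = AddMonoidHom.id _ := by
  have : IsSepClosed Ω := IsSepClosure.sep_closed K
  have : Algebra.IsSeparable K Ω := IsSepClosure.separable
  have : Algebra.IsAlgebraic K Ω := Algebra.IsSeparable.isAlgebraic K Ω
  have : Finite (EtCoh.H (SGA7.bcField Ω f) (EtCoh.const (SGA7.bcField Ω f) M) q) :=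
    Groth.Agent.S0185.result (SGA7.bcField Ω f)
      (pullback.snd f (Spec.map (CommRingCat.ofHom (algebraMap K Ω)))) (Nat.card M) Nat.card_pos _
      (Groth.Agent.Etrest.ConstBasic.isConstructible_const _ M)
      (Groth.Agent.Etrest.ConstBasic.killedBy_const _ M _ (fun m => card_nsmul_eq_zero')) q
  exact exists_triv_of_finite f M q

/-- (RED) a finite extension acts trivially on `H¹(C_Ω, ℤ/ℓ)` -/
theorem exists_triv (K Ω : Type u) [Field K] [Field Ω] [Algebra K Ω] [IsSepClosure K Ω]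
    (ℓ : ℕ) (hℓ : ℓ.Prime) (_hℓK : (ℓ : K) ≠ 0) {C : Scheme.{u}} (f : C ⟶ Spec (CommRingCat.of K))
    [IsProper f] [Smooth f] :
    ∃ E : IntermediateField K Ω, FiniteDimensional K E ∧
      ∀ σ ∈ E.fixingSubgroup, Hc (SGA7.twistAut Ω f σ) (ZMod ℓ) 1 = AddMonoidHom.id _ := by
  have : NeZero ℓ := ⟨hℓ.ne_zero⟩
  exact exists_triv_proper K Ω f (ZMod ℓ) 1

end Groth.Agent.Sga7.H885.Red
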