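import Groth.Agent.Sga7.H744.CohConst
import Groth.Agent.Vancyc.H684.GalCont
import Groth.Agent.Etrest.HPost2
import Groth.Prelude.Def_VanCyc
import Mathlib.FieldTheory.IntermediateField.Adjoin.Basic
import Mathlib.FieldTheory.IsSepClosed

/-!
# The Galois action on finite cohomology groups is trivial after a finite extension

`Hc_post`: comparison of `Hc` (constant coefficients) with `EtCore.HpullVia`.
`exists_fix`: a class of `H^q(X_Ω, M)` is fixed by `Gal(Ω/L)`, `L/K` finite.
`exists_triv_of_finite`: if `H^q(X_Ω, M)` is finite, `Gal(Ω/E)` acts trivially for some finite `E/K`.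
-/

set_option autoImplicit false
universe u

open CategoryTheory CategoryTheory.Limits AlgebraicGeometry

namespace Groth.Agent.Sga7.H885.Red

open Groth.Agent.Sga7.H744.CohConst Groth.Agent.Etrest.HPost Groth.Agent.Etcore.PullCoh

variable {X Y Z : Scheme.{u}}

theorem Hc_apply (g : X ⟶ Y) [PreservesFiniteLimits (EtCoh.pull g)] (M : Type) [AddCommGroup M]
    (q : ℕ) (x : EtCoh.H Y (EtCoh.const Y M) q) :
    Hc g M q x = post (EtCore.pullConst g M).hom q (EtCore.Hpull g (EtCoh.const Y M) q x) := rfl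

theorem Hc_post (g : X ⟶ Y) (t : Y ⟶ Z) (f₀ : X ⟶ Z) (w : g ≫ t = f₀)
    [PreservesFiniteLimits (EtCoh.pull g)] (M : Type) [AddCommGroup M]
    (q : ℕ) (ξ : EtCoh.H Y ((EtCoh.pull t).obj (EtCoh.const Z M)) q) :
    Hc g M q (post (EtCore.pullConst t M).hom q ξ) =
      post (EtCore.pullConst f₀ M).hom q (EtCore.HpullVia g t f₀ w (EtCoh.const Z M) q ξ) := by
  rw [Hc_apply, Hpull_post, post_comp, pullConst_comp g t f₀ w, HpullVia_post, post_comp]

variable {K : Type u} [Field K] {Ω : Type u} [Field Ω] [Algebra K Ω]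

theorem twistAut_eq (f : X ⟶ Spec (CommRingCat.of K)) (σ : Ω ≃ₐ[K] Ω) :
    SGA7.twistAut Ω f σ = VanCyc.galGeom f σ := rfl

/-- Every class is fixed by an open subgroup. -/
theorem exists_fix [Algebra.IsAlgebraic K Ω] (f : X ⟶ Spec (CommRingCat.of K)) [QuasiCompact f]
    [QuasiSeparated f] (M : Type) [AddCommGroup M] (q : ℕ)
    (x : EtCoh.H (SGA7.bcField Ω f) (EtCoh.const (SGA7.bcField Ω f) M) q) :
    ∃ (L : IntermediateField K Ω) (_ : FiniteDimensional K L), ∀ σ ∈ L.fixingSubgroup,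
      Hc (SGA7.twistAut Ω f σ) M q x = x := by
  obtain ⟨ξ, rfl⟩ := (post_bijective
    (EtCore.pullConst (VanCyc.jA K f Ω) M).hom q).2 x
  obtain ⟨L, hL, h⟩ := Groth.Agent.Vancyc.H684.GalCont.exists_finite_fix (R := K) (K := K) (Ω := Ω) f
    (EtCoh.const X M) q ξ
  refine ⟨L, hL, fun σ hσ => ?_⟩
  have : PreservesFiniteLimits (EtCoh.pull (VanCyc.galGeom f σ)) := Groth.Agent.S0101.result _
  refine (Hc_post (VanCyc.galGeom f σ) (VanCyc.jA K f Ω) (VanCyc.jA K f Ω)
    (VanCyc.galGeom_jA f σ) M q ξ).trans ?_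
  exact congrArg _ (h σ hσ)

/-- If the cohomology group is finite, an open subgroup acts trivially. -/
theorem exists_triv_of_finite [Algebra.IsAlgebraic K Ω] (f : X ⟶ Spec (CommRingCat.of K))
    [QuasiCompact f] [QuasiSeparated f] (M : Type) [AddCommGroup M] (q : ℕ)
    [Finite (EtCoh.H (SGA7.bcField Ω f) (EtCoh.const (SGA7.bcField Ω f) M) q)] :
    ∃ E : IntermediateField K Ω, FiniteDimensional K E ∧
      ∀ σ ∈ E.fixingSubgroup, Hc (SGA7.twistAut Ω f σ) M q = AddMonoidHom.id _ := by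
  choose L hL h using exists_fix (Ω := Ω) f M q
  refine ⟨⨆ x, L x, IntermediateField.finiteDimensional_iSup_of_finite, fun σ hσ => ?_⟩
  ext x
  refine h x σ ?_
  exact IntermediateField.fixingSubgroup_antitone (le_iSup L x) hσ

end Groth.Agent.Sga7.H885.Red
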